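import Groth.Agent.DiagGrp.GL
import Mathlib.CategoryTheory.Monoidal.Grp

/-!
Homomorphisms `D(G) → GL_m` as families of orthogonal idempotents.
-/

universe u

open CategoryTheory MonoidalCategory CartesianMonoidalCategory MonObj GrpObj AlgebraicGeometry
open scoped TensorProduct

noncomputable section

namespace Groth.Agent.DiagGrp

open CoactBr

section Conv

variable {R : Type u} [CommRing R] {G : Type} [CommGroup G] {C : Type u} [CommRing C] [Algebra R C]

/-- product of two points of `D(G)` -/
def conv (x y : MonoidAlgebra R G →ₐ[R] C) : MonoidAlgebra R G →ₐ[R] C :=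
  (Algebra.TensorProduct.lift x y fun _ _ => .all _ _).comp (Bialgebra.comulAlgHom R (MonoidAlgebra R G))

@[simp] theorem conv_single (x y : MonoidAlgebra R G →ₐ[R] C) (a : G) :
    conv x y (MonoidAlgebra.single a 1) = x (MonoidAlgebra.single a 1) * y (MonoidAlgebra.single a 1) := by
  simp [conv]

theorem pt_conv (x y : MonoidAlgebra R G →ₐ[R] C) : pt (conv x y) = pt x * pt y := (pt_mul_pt x y).symm

variable {m : ℕ}

/-- a matrix over a group algebra defining a homomorphism to `GL_m` -/
structure IsHomMatrix (M : Matrix (Fin m) (Fin m) (MonoidAlgebra R G)) : Prop where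
  map_conv : ∀ (C : Type u) [CommRing C] [Algebra R C] (x y : MonoidAlgebra R G →ₐ[R] C),
    M.map (conv x y) = M.map x * M.map y
  map_counit : M.map (Bialgebra.counitAlgHom R (MonoidAlgebra R G)) = 1

/-- weight component -/
def wt (M : Matrix (Fin m) (Fin m) (MonoidAlgebra R G)) (a : G) : Matrix (Fin m) (Fin m) R :=
  M.map fun p => p.coeff a

variable [Fintype G] [DecidableEq G]

/-- the matrix of a family -/
def ofFam (P : G → Matrix (Fin m) (Fin m) R) : Matrix (Fin m) (Fin m) (MonoidAlgebra R G) :=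
  Matrix.of fun i j => ∑ a, MonoidAlgebra.single a (P a i j)

theorem wt_ofFam (P : G → Matrix (Fin m) (Fin m) R) (a : G) : wt (ofFam P) a = P a := by
  ext i j
  simp [wt, ofFam, MonoidAlgebra.coeff_sum, Finsupp.single_apply]

theorem ofFam_wt (M : Matrix (Fin m) (Fin m) (MonoidAlgebra R G)) : ofFam (wt M) = M := by
  ext i j a
  simp [wt, ofFam, MonoidAlgebra.coeff_sum, Finsupp.single_apply]

theorem map_ofFam (P : G → Matrix (Fin m) (Fin m) R) (x : MonoidAlgebra R G →ₐ[R] C) :
    (ofFam P).map x = ∑ a, x (MonoidAlgebra.single a 1) • (P a).map (algebraMap R C) := by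
  ext i j
  simp only [Matrix.map_apply, ofFam, Matrix.of_apply, map_sum, Matrix.sum_apply, Matrix.smul_apply, smul_eq_mul]
  refine Finset.sum_congr rfl fun a _ => ?_
  rw [show MonoidAlgebra.single a (P a i j) = (P a i j) • MonoidAlgebra.single a (1 : R) by simp, map_smul,
    Algebra.smul_def, mul_comm]

theorem mul_sum_smul {Q : G → Matrix (Fin m) (Fin m) C} (hQ : ∀ a b, Q a * Q b = if a = b then Q a else 0)
    (f g : G → C) : (∑ a, f a • Q a) * (∑ a, g a • Q a) = ∑ a, (f a * g a) • Q a := by
  rw [Finset.sum_mul]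
  refine Finset.sum_congr rfl fun a _ => ?_
  rw [Finset.mul_sum, Finset.sum_eq_single a]
  · rw [Matrix.smul_mul, Matrix.mul_smul, hQ, if_pos rfl, smul_smul]
  · intro b _ hb
    rw [Matrix.smul_mul, Matrix.mul_smul, hQ, if_neg (Ne.symm hb), smul_zero, smul_zero]
  · simp

theorem IsIdemFamily.map {P : G → Matrix (Fin m) (Fin m) R} (hP : IsIdemFamily P) {S : Type u} [CommRing S]
    (f : R →+* S) : IsIdemFamily (fun a => (P a).map f) := by
  refine ⟨fun a b => ?_, ?_⟩
  · rw [← Matrix.map_mul, hP.mul]
    split_ifs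
    · rfl
    · simp
  · have := congrArg f.mapMatrix hP.sum
    simpa [map_sum] using this

theorem isHomMatrix_ofFam {P : G → Matrix (Fin m) (Fin m) R} (hP : IsIdemFamily P) : IsHomMatrix (ofFam P) := by
  refine ⟨fun C _ _ x y => ?_, ?_⟩
  · rw [map_ofFam, map_ofFam, map_ofFam, mul_sum_smul (hP.map (algebraMap R C)).mul]
    simp
  · rw [map_ofFam]
    simpa using hP.sum

theorem isUnit_det_ofFam {P : G → Matrix (Fin m) (Fin m) R} (hP : IsIdemFamily P) :
    IsUnit (ofFam P).det := by
  refine Matrix.isUnit_det_of_right_inverse (B := (ofFam P).map (MonoidAlgebra.mapDomainAlgHom R R (MonoidHom.id G)⁻¹)) ?_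
  have h := map_ofFam P (AlgHom.id R (MonoidAlgebra R G))
  rw [show (ofFam P).map (AlgHom.id R (MonoidAlgebra R G)) = ofFam P from by ext; simp] at h
  rw [map_ofFam]
  conv_lhs => arg 1; rw [h]
  rw [mul_sum_smul (hP.map _).mul]
  have hs := (hP.map (algebraMap R (MonoidAlgebra R G))).sum
  refine Eq.trans (Finset.sum_congr rfl fun a _ => ?_) hs
  simp [← MonoidAlgebra.one_def]

theorem IsHomMatrix.isIdemFamily {M : Matrix (Fin m) (Fin m) (MonoidAlgebra R G)} (hM : IsHomMatrix M) :
    IsIdemFamily (wt M) := by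
  refine ⟨fun a b => ?_, ?_⟩
  · have h := hM.map_conv (MonoidAlgebra R (G × G))
      (MonoidAlgebra.mapDomainAlgHom R R (MonoidHom.inl G G)) (MonoidAlgebra.mapDomainAlgHom R R (MonoidHom.inr G G))
    have hz : conv (MonoidAlgebra.mapDomainAlgHom R R (MonoidHom.inl G G))
        (MonoidAlgebra.mapDomainAlgHom R R (MonoidHom.inr G G)) =
        MonoidAlgebra.mapDomainAlgHom R R ((MonoidHom.id G).prod (MonoidHom.id G)) := by
      ext c
      simp
    have hpq : ∀ p q : MonoidAlgebra R G, (MonoidAlgebra.mapDomainAlgHom R R (MonoidHom.inl G G) p *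
        MonoidAlgebra.mapDomainAlgHom R R (MonoidHom.inr G G) q).coeff (a, b) = p.coeff a * q.coeff b := by
      intro p q
      induction p using MonoidAlgebra.induction_linear with
      | zero => simp
      | add p p' hp hp' => simp only [map_add, add_mul, MonoidAlgebra.coeff_add, Finsupp.add_apply, hp, hp']
      | single c r =>
        induction q using MonoidAlgebra.induction_linear with
        | zero => simp
        | add q q' hq hq' => simp only [map_add, mul_add, MonoidAlgebra.coeff_add, Finsupp.add_apply, hq, hq']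
        | single d s =>
          simp [MonoidAlgebra.single_mul_single, Finsupp.single_apply]
          split_ifs <;> simp_all
    have hpd : ∀ p : MonoidAlgebra R G,
        (MonoidAlgebra.mapDomainAlgHom R R ((MonoidHom.id G).prod (MonoidHom.id G)) p).coeff (a, b) =
          if a = b then p.coeff a else 0 := by
      intro p
      induction p using MonoidAlgebra.induction_linear with
      | zero => simp
      | add p p' hp hp' =>
        simp only [map_add, MonoidAlgebra.coeff_add, Finsupp.add_apply, hp, hp']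
        split_ifs <;> simp
      | single c r =>
        simp [Finsupp.single_apply]
        split_ifs <;> grind
    rw [hz] at h
    ext i j
    have hij := congrArg (fun p : MonoidAlgebra R (G × G) => p.coeff (a, b)) (congrFun (congrFun h i) j)
    simp only [Matrix.map_apply, Matrix.mul_apply, MonoidAlgebra.coeff_sum, Finsupp.finsetSum_apply, hpq, hpd] at hij
    rw [Matrix.mul_apply]
    simp only [wt, Matrix.map_apply]
    rw [← hij]
    split_ifs <;> simp
  · have h := hM.map_counit
    rw [← ofFam_wt M, map_ofFam] at h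
    simpa using h

theorem IsHomMatrix.isUnit_det {M : Matrix (Fin m) (Fin m) (MonoidAlgebra R G)} (hM : IsHomMatrix M) :
    IsUnit M.det := by
  rw [← ofFam_wt M]
  exact isUnit_det_ofFam hM.isIdemFamily

end Conv

section Points

variable {k K : Type u} [CommRing k] [CommRing K] [Algebra k K] {G : Type} [CommGroup G] {m : ℕ}

theorem mul_comp' {S : Scheme.{u}} {X M N : Over S} [GrpObj M] [GrpObj N] (f g : X ⟶ M) (h : M ⟶ N) [IsMonHom h] :
    (f * g) ≫ h = (f ≫ h) * (g ≫ h) := by
  simp [Hom.mul_def, IsMonHom.mul_hom]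

theorem one_comp' {S : Scheme.{u}} {X M N : Over S} [GrpObj M] [GrpObj N] (h : M ⟶ N) [IsMonHom h] :
    (1 : X ⟶ M) ≫ h = 1 := by
  simp [Hom.one_def, IsMonHom.one_hom]

theorem pt_counit_eq_one :
    pt (Bialgebra.counitAlgHom k (MonoidAlgebra k G)) = (1 : sp k k ⟶ sp k (MonoidAlgebra k G)) := by
  rw [one_eq_pt]
  congr 1

/-- the matrix of a point of the base change of `GL_m` -/
def matK {B : Type u} [CommRing B] [Algebra k B] [Algebra K B] [IsScalarTower k K B]
    (p : sp K B ⟶ Red.bc (str k K) (GLm k m)) : Matrix (Fin m) (Fin m) B :=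
  mat (down p)

theorem matK_mul {B : Type u} [CommRing B] [Algebra k B] [Algebra K B] [IsScalarTower k K B]
    (p q : sp K B ⟶ Red.bc (str k K) (GLm k m)) : matK (p * q) = matK p * matK q := by
  rw [matK, down_mul, mat_mul]; rfl

theorem matK_one {B : Type u} [CommRing B] [Algebra k B] [Algebra K B] [IsScalarTower k K B] :
    matK (1 : sp K B ⟶ Red.bc (str k K) (GLm k m)) = 1 := by
  rw [matK, down_one, mat_one]

theorem matK_comp {B C : Type u} [CommRing B] [Algebra k B] [Algebra K B] [IsScalarTower k K B]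
    [CommRing C] [Algebra k C] [Algebra K C] [IsScalarTower k K C] (g : B →ₐ[K] C)
    (p : sp K B ⟶ Red.bc (str k K) (GLm k m)) : matK (pt g ≫ p) = (matK p).map g := by
  rw [matK, down_comp, mat_comp]; rfl

theorem matK_injective {B : Type u} [CommRing B] [Algebra k B] [Algebra K B] [IsScalarTower k K B] :
    Function.Injective (matK : (sp K B ⟶ Red.bc (str k K) (GLm k m)) → _) := fun _ _ h =>
  down_injective (mat_injective h)

theorem matK_comp_map {B : Type u} [CommRing B] [Algebra k B] [Algebra K B] [IsScalarTower k K B]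
    {X : Over (Spec (CommRingCat.of k))} (a : X ⟶ GLm k m) (p : sp K B ⟶ Red.bc (str k K) X) :
    matK (p ≫ (Over.pullback (str k K)).map a) = mat (down p ≫ a) := by
  rw [matK, down_comp_map]

theorem isHomMatrix_mat (a : sp k (MonoidAlgebra k G) ⟶ GLm k m) [IsMonHom a] : IsHomMatrix (mat a) := by
  refine ⟨fun C _ _ x y => ?_, ?_⟩
  · rw [← mat_comp, ← mat_comp, ← mat_comp, pt_conv, mul_comp', mat_mul]
  · rw [← mat_comp, pt_counit_eq_one, one_comp', mat_one]

theorem isHomMatrix_matK (a : sp K (MonoidAlgebra K G) ⟶ Red.bc (str k K) (GLm k m)) [IsMonHom a] :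
    IsHomMatrix (matK a) := by
  refine ⟨fun C _ _ x y => ?_, ?_⟩
  · letI : Algebra k C := Algebra.compHom C (algebraMap k K)
    haveI : IsScalarTower k K C := IsScalarTower.of_algebraMap_eq fun _ => rfl
    rw [← matK_comp, ← matK_comp, ← matK_comp, pt_conv, mul_comp', matK_mul]
  · rw [← matK_comp, pt_counit_eq_one, one_comp', matK_one]

theorem exists_monHom {M : Matrix (Fin m) (Fin m) (MonoidAlgebra k G)} (hM : IsHomMatrix M) (hdet : IsUnit M.det) :
    ∃ a : sp k (MonoidAlgebra k G) ⟶ GLm k m, IsMonHom a ∧ mat a = M := by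
  obtain ⟨a, rfl⟩ := mat_surjective (k := k) M hdet
  refine ⟨a, isMonHom_of_points a fun C _ _ x y => ?_, rfl⟩
  obtain ⟨φ, rfl⟩ := pt_surjective x
  obtain ⟨ψ, rfl⟩ := pt_surjective y
  apply mat_injective
  rw [mat_mul, ← pt_conv, mat_comp, mat_comp, mat_comp, hM.map_conv]

theorem exists_ds_iso {f : Spec (CommRingCat.of K) ⟶ Spec (CommRingCat.of k)} (hf : f = str k K) :
    Nonempty (Grp.mk (sp K (MonoidAlgebra K G)) ≅ Grp.mk (Red.bc f (sp k (MonoidAlgebra k G)))) := by
  subst hf
  haveI : IsMonHom (asIso (uMap k K G)).hom := isMonHom_uMap k K G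
  exact ⟨Grp.mkIso' (asIso (uMap k K G))⟩

theorem isSplitTorusWith_iff {M : Type} [AddCommGroup M] (σ : Over (Spec (CommRingCat.of K))) [GrpObj σ] :
    Red.IsSplitTorusWith M σ ↔
      Nonempty (Grp.mk σ ≅ Grp.mk (sp K (MonoidAlgebra K (Multiplicative M)))) := by
  letI : Algebra (ULift.{u} ℤ) K := ((algebraMap ℤ K).comp ULift.ringEquiv.toRingHom).toAlgebra
  obtain ⟨e⟩ := exists_ds_iso (k := ULift.{u} ℤ) (K := K) (G := Multiplicative M)
    (f := Limits.IsTerminal.from specULiftZIsTerminal (Spec (CommRingCat.of K))) (specULiftZIsTerminal.hom_ext _ _)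
  exact ⟨fun ⟨h⟩ => ⟨h ≪≫ e.symm⟩, fun ⟨h⟩ => ⟨h ≪≫ e⟩⟩

theorem exists_endo {F : Type u} [Field F] [Fintype G] [DecidableEq G]
    (ψ : MonoidAlgebra F G →ₐ[F] MonoidAlgebra F G)
    (hψ : ∀ (C : Type u) [CommRing C] [Algebra F C] (x y : MonoidAlgebra F G →ₐ[F] C),
      (conv x y).comp ψ = conv (x.comp ψ) (y.comp ψ))
    (hε : (Bialgebra.counitAlgHom F (MonoidAlgebra F G)).comp ψ = Bialgebra.counitAlgHom F (MonoidAlgebra F G)) :
    ∃ s : G → G, ∀ a, ψ (MonoidAlgebra.single a 1) = MonoidAlgebra.single (s a) 1 := by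
  have key : ∀ a, ∃ b, ψ (MonoidAlgebra.single a 1) = MonoidAlgebra.single b 1 := by
    intro a
    let M : Matrix (Fin 1) (Fin 1) (MonoidAlgebra F G) := Matrix.of fun _ _ => ψ (MonoidAlgebra.single a 1)
    have hM : IsHomMatrix M := by
      refine ⟨fun C _ _ x y => ?_, ?_⟩
      · ext i j
        rw [Matrix.mul_apply, Fin.sum_univ_one]
        exact (DFunLike.congr_fun (hψ C x y) (MonoidAlgebra.single a 1)).trans (conv_single _ _ a)
      · ext i j
        rw [Subsingleton.elim j i, Matrix.one_apply_eq]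
        exact (DFunLike.congr_fun hε (MonoidAlgebra.single a 1)).trans (by simp)
    have hI := hM.isIdemFamily
    let e : G → F := fun b => wt M b 0 0
    have hm : ∀ b c, e b * e c = if b = c then e b else 0 := by
      intro b c
      have h := congrFun (congrFun (hI.mul b c) 0) 0
      rw [Matrix.mul_apply, Fin.sum_univ_one] at h
      refine h.trans ?_
      split_ifs <;> rfl
    have hsum : ∑ b, e b = 1 := by
      have h := congrFun (congrFun hI.sum 0) 0
      rwa [Matrix.sum_apply] at h
    obtain ⟨b, hb⟩ : ∃ b, e b ≠ 0 := by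
      by_contra hne
      push Not at hne
      simp [hne] at hsum
    have hb1 : e b = 1 := mul_left_cancel₀ hb (by rw [hm, if_pos rfl, _root_.mul_one])
    refine ⟨b, MonoidAlgebra.coeff_injective (Finsupp.ext fun c => ?_)⟩
    show e c = _
    by_cases hc : b = c
    · subst hc; simp [hb1]
    · have := hm b c
      rw [if_neg hc, hb1, _root_.one_mul] at this
      simp [this, Finsupp.single_apply, hc]
  exact ⟨fun a => (key a).choose, fun a => (key a).choose_spec⟩

end Points

end Groth.Agent.DiagGrp
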