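import Groth.Prelude.Def_Red
import Groth.Prelude.Def_CoactBr
import Mathlib.RingTheory.TensorProduct.MonoidAlgebra
import Mathlib.RingTheory.Bialgebra.MonoidAlgebra

/-!
Points of a base change of a group scheme to an affine base, and the comparison
`Spec K[M] ≅ (Spec k[M])_K` as group schemes.
-/

universe u

open CategoryTheory Limits MonoidalCategory CartesianMonoidalCategory MonObj GrpObj AlgebraicGeometry
open scoped TensorProduct

noncomputable section

namespace Groth.Agent.DiagGrp

open CoactBr

local instance braidedAlgSpecOf' (R : Type u) [CommRing R] : (algSpec (CommRingCat.of R)).Braided :=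
  braidedAlgSpec

variable {k K : Type u} [CommRing k] [CommRing K] [Algebra k K]

/-- the structure map -/
abbrev str (k K : Type u) [CommRing k] [CommRing K] [Algebra k K] :
    Spec (CommRingCat.of K) ⟶ Spec (CommRingCat.of k) :=
  Spec.map (CommRingCat.ofHom (algebraMap k K))

theorem pt_surjective {R B L : Type u} [CommRing R] [CommRing B] [CommRing L] [Algebra R B] [Algebra R L]
    (x : sp R L ⟶ sp R B) : ∃ φ : B →ₐ[R] L, pt φ = x := by
  haveI := algSpec.instFull (R := CommRingCat.of R)
  obtain ⟨f, hf⟩ := (algSpec (CommRingCat.of R)).map_surjective (X := Opposite.op (CommAlgCat.of R L))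
    (Y := Opposite.op (CommAlgCat.of R B)) x
  exact ⟨f.unop.hom, hf⟩

variable {B : Type u} [CommRing B] [Algebra k B] [Algebra K B] [IsScalarTower k K B]

variable (k K B) in
/-- `Spec B` over `k`, seen as the composite of `Spec B` over `K` with the structure map. -/
def spIso : (Over.map (str k K)).obj (sp K B) ≅ sp k B :=
  Over.isoMk (Iso.refl _) (by
    show 𝟙 _ ≫ Spec.map (CommRingCat.ofHom (algebraMap k B)) =
      Spec.map (CommRingCat.ofHom (algebraMap K B)) ≫ Spec.map (CommRingCat.ofHom (algebraMap k K))
    rw [Category.id_comp, ← Spec.map_comp, ← CommRingCat.ofHom_comp, ← IsScalarTower.algebraMap_eq])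

/-- a `k`-point with values in a `K`-algebra gives a `K`-point of the base change -/
def up {X : Over (Spec (CommRingCat.of k))} (q : sp k B ⟶ X) : sp K B ⟶ Red.bc (str k K) X :=
  (Over.mapPullbackAdj (str k K)).unit.app (sp K B) ≫
    (Over.pullback (str k K)).map ((spIso k K B).hom ≫ q)

/-- a `K`-point of the base change as a `k`-point -/
def down {X : Over (Spec (CommRingCat.of k))} (p : sp K B ⟶ Red.bc (str k K) X) : sp k B ⟶ X :=
  (spIso k K B).inv ≫ ((Over.mapPullbackAdj (str k K)).homEquiv _ _).symm p

theorem up_eq {X : Over (Spec (CommRingCat.of k))} (q : sp k B ⟶ X) :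
    up (K := K) q = ((Over.mapPullbackAdj (str k K)).homEquiv _ _) ((spIso k K B).hom ≫ q) := by
  rw [Adjunction.homEquiv_unit]; rfl

theorem down_up {X : Over (Spec (CommRingCat.of k))} (q : sp k B ⟶ X) : down (K := K) (up q) = q := by
  rw [up_eq, down, Equiv.symm_apply_apply, Iso.inv_hom_id_assoc]

theorem up_down {X : Over (Spec (CommRingCat.of k))} (p : sp K B ⟶ Red.bc (str k K) X) :
    up (down p) = p := by
  rw [up_eq, down, Iso.hom_inv_id_assoc, Equiv.apply_symm_apply]

theorem down_injective {X : Over (Spec (CommRingCat.of k))} :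
    Function.Injective (down : (sp K B ⟶ Red.bc (str k K) X) → _) := fun a b h => by
  rw [← up_down a, h, up_down]

theorem up_mul {X : Over (Spec (CommRingCat.of k))} [GrpObj X] (p q : sp k B ⟶ X) :
    up (K := K) (p * q) = up p * up q := by
  rw [up, up, up, MonObj.comp_mul, Functor.map_mul, MonObj.comp_mul]

theorem down_mul {X : Over (Spec (CommRingCat.of k))} [GrpObj X] (p q : sp K B ⟶ Red.bc (str k K) X) :
    down (p * q) = down p * down q := by
  conv_lhs => rw [← up_down p, ← up_down q, ← up_mul, down_up]

theorem down_one {X : Over (Spec (CommRingCat.of k))} [GrpObj X] :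
    down (1 : sp K B ⟶ Red.bc (str k K) X) = 1 := by
  have h := down_mul (1 : sp K B ⟶ Red.bc (str k K) X) 1
  rw [_root_.mul_one] at h
  exact left_eq_mul.mp h

theorem down_comp_map {X Y : Over (Spec (CommRingCat.of k))} (a : X ⟶ Y)
    (p : sp K B ⟶ Red.bc (str k K) X) :
    down (p ≫ (Over.pullback (str k K)).map a) = down p ≫ a := by
  rw [down, down, Adjunction.homEquiv_naturality_right_symm, Category.assoc]

theorem up_comp_map {X Y : Over (Spec (CommRingCat.of k))} (a : X ⟶ Y) (q : sp k B ⟶ X) :
    up q ≫ (Over.pullback (str k K)).map a = up (K := K) (q ≫ a) := by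
  apply down_injective
  rw [down_comp_map, down_up, down_up]

theorem down_comp {C : Type u} [CommRing C] [Algebra k C] [Algebra K C] [IsScalarTower k K C]
    {X : Over (Spec (CommRingCat.of k))} (g : B →ₐ[K] C) (p : sp K B ⟶ Red.bc (str k K) X) :
    down (pt g ≫ p) = pt (g.restrictScalars k) ≫ down p := by
  rw [down, down, Adjunction.homEquiv_naturality_left_symm, ← Category.assoc, ← Category.assoc]
  congr 1

theorem comp_up {C : Type u} [CommRing C] [Algebra k C] [Algebra K C] [IsScalarTower k K C]
    {X : Over (Spec (CommRingCat.of k))} (g : B →ₐ[K] C) (q : sp k B ⟶ X) :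
    pt g ≫ up q = up (K := K) (pt (g.restrictScalars k) ≫ q) := by
  apply down_injective
  rw [down_comp, down_up, down_up]

theorem up_left_fst {X : Over (Spec (CommRingCat.of k))} (q : sp k B ⟶ X) :
    (up (K := K) q).left ≫ pullback.fst X.hom (str k K) = q.left := by
  have h := congrArg (fun f => CommaMorphism.left f) (down_up (K := K) q)
  simp only [down, Adjunction.homEquiv_counit, Over.comp_left, Over.map_map_left,
    Over.mapPullbackAdj_counit_app, Over.homMk_left, spIso] at h
  exact ((Category.id_comp _).symm.trans h :)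

theorem up_left_snd {X : Over (Spec (CommRingCat.of k))} (q : sp k B ⟶ X) :
    (up (K := K) q).left ≫ pullback.snd X.hom (str k K) = Spec.map (CommRingCat.ofHom (algebraMap K B)) :=
  Over.w (up (K := K) q)

/-- A morphism of affine schemes into a monoid object is a homomorphism if it is multiplicative on affine points. -/
theorem isMonHom_of_points {A : Type u} [CommRing A] [Bialgebra K A] {Y : Over (Spec (CommRingCat.of K))}
    [GrpObj Y] (a : sp K A ⟶ Y)
    (h : ∀ (C : Type u) [CommRing C] [Algebra K C] (x y : sp K C ⟶ sp K A),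
      (x * y) ≫ a = (x ≫ a) * (y ≫ a)) : IsMonHom a := by
  have hmul : μ[sp K A] ≫ a = (a ⊗ₘ a) ≫ μ[Y] := by
    let e : sp K (A ⊗[K] A) ≅ sp K A ⊗ sp K A :=
      (Functor.Monoidal.μIso (algSpec (CommRingCat.of K)) (Opposite.op (CommAlgCat.of K A))
        (Opposite.op (CommAlgCat.of K A))).symm
    have h' := h (A ⊗[K] A) (e.hom ≫ fst _ _) (e.hom ≫ snd _ _)
    rw [Hom.mul_def, Hom.mul_def, ← comp_lift, lift_fst_snd, Category.comp_id,
      Category.assoc, Category.assoc, Category.assoc, ← comp_lift] at h'
    rw [← cancel_epi e.hom, h', ← lift_fst_comp_snd_comp, Category.assoc]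
  have hone : η[sp K A] ≫ a = η[Y] := by
    haveI : Algebra K K := Algebra.id K
    have h1 := h A (1 : sp K A ⟶ sp K A) 1
    rw [_root_.mul_one] at h1
    have h2 : (1 : sp K A ⟶ sp K A) ≫ a = 1 := left_eq_mul.mp h1
    rw [Hom.one_def, Hom.one_def, Category.assoc] at h2
    have h3 := η[sp K A] ≫= h2
    simp only [← Category.assoc] at h3
    rwa [toUnit_unique (η[sp K A] ≫ toUnit _) (𝟙 _), Category.id_comp, Category.id_comp] at h3
  exact ⟨hone, hmul⟩

section MonoidAlgebra

variable (k K) (G : Type) [CommGroup G]

/-- `k[G] → K[G]` -/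
def incl : MonoidAlgebra k G →ₐ[k] MonoidAlgebra K G :=
  MonoidAlgebra.lift k _ G (MonoidAlgebra.of K G)

@[simp] theorem incl_single (a : G) : incl k K G (MonoidAlgebra.single a 1) = MonoidAlgebra.single a 1 := by
  simp [incl]

/-- the comparison `Spec K[G] → (Spec k[G])_K` -/
def uMap : sp K (MonoidAlgebra K G) ⟶ Red.bc (str k K) (sp k (MonoidAlgebra k G)) :=
  up (pt (incl k K G))

instance isMonHom_uMap : IsMonHom (uMap k K G) := by
  refine isMonHom_of_points _ fun C _ _ x y => ?_
  letI : Algebra k C := Algebra.compHom C (algebraMap k K)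
  haveI : IsScalarTower k K C := IsScalarTower.of_algebraMap_eq fun _ => rfl
  obtain ⟨φ, rfl⟩ := pt_surjective x
  obtain ⟨ψ, rfl⟩ := pt_surjective y
  rw [pt_mul_pt, uMap, comp_up, comp_up, comp_up, ← up_mul, ← pt_comp, ← pt_comp, ← pt_comp,
    pt_mul_pt]
  have e : (AlgHom.restrictScalars k ((Algebra.TensorProduct.lift φ ψ fun _ _ => .all _ _).comp
      (Bialgebra.comulAlgHom K (MonoidAlgebra K G)))).comp (incl k K G) =
    (Algebra.TensorProduct.lift ((AlgHom.restrictScalars k φ).comp (incl k K G))
      ((AlgHom.restrictScalars k ψ).comp (incl k K G)) fun _ _ => .all _ _).comp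
      (Bialgebra.comulAlgHom k (MonoidAlgebra k G)) := by
    ext a
    simp
  rw [e]

open scoped AlgebraMonoidAlgebra in
theorem isPullback_incl :
    IsPullback (pt (incl k K G)).left (sp K (MonoidAlgebra K G)).hom
      (sp k (MonoidAlgebra k G)).hom (str k K) := by
  have halg : (incl k K G).toRingHom = algebraMap (MonoidAlgebra k G) (MonoidAlgebra K G) := by
    refine MonoidAlgebra.ringHom_ext (fun r => ?_) (fun m => ?_) <;>
      simp [incl, Algebra.smul_def]
  have h := isPullback_SpecMap_of_isPushout _ _ _ _
    (CommRingCat.isPushout_iff_isPushout.mpr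
      (inferInstance : Algebra.IsPushout k (MonoidAlgebra k G) K (MonoidAlgebra K G)))
  rw [pt_left, halg]
  change IsPullback _ (Spec.map (CommRingCat.ofHom (algebraMap K (MonoidAlgebra K G))))
    (Spec.map (CommRingCat.ofHom (algebraMap k (MonoidAlgebra k G)))) _
  convert h using 1

theorem uMap_left_fst : (uMap k K G).left ≫ pullback.fst (sp k (MonoidAlgebra k G)).hom (str k K) =
    (pt (incl k K G)).left :=
  up_left_fst _

theorem uMap_left_snd : (uMap k K G).left ≫ pullback.snd (sp k (MonoidAlgebra k G)).hom (str k K) =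
    (sp K (MonoidAlgebra K G)).hom :=
  Over.w (uMap k K G)

attribute [local irreducible] uMap in
instance isIso_uMap : IsIso (uMap k K G) := by
  have hp := isPullback_incl k K G
  have h1 : (uMap k K G).left = hp.isoPullback.hom := by
    apply pullback.hom_ext
    · exact (uMap_left_fst k K G).trans (IsPullback.isoPullback_hom_fst hp).symm
    · exact (uMap_left_snd k K G).trans (IsPullback.isoPullback_hom_snd hp).symm
  haveI : IsIso ((Over.forget _).map (uMap k K G)) := by
    show IsIso (uMap k K G).left
    rw [h1]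
    exact Iso.isIso_hom hp.isoPullback
  exact isIso_of_reflects_iso _ (Over.forget _)

end MonoidAlgebra

end Groth.Agent.DiagGrp
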