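import Groth.Agent.DiagGrp.Hom
import Groth.Prelude.Def_AGF

/-!
Conjugation of homomorphisms `D(G) → GL_m` by rational points.
-/

universe u

open CategoryTheory MonoidalCategory CartesianMonoidalCategory MonObj GrpObj AlgebraicGeometry
open scoped TensorProduct

noncomputable section

namespace Groth.Agent.DiagGrp

open CoactBr

section General

variable {S : Scheme.{u}}

theorem comp_conjBy {X G H : Over S} [GrpObj G] (f : X ⟶ H) (g : 𝟙_ (Over S) ⟶ G) (i : H ⟶ G) :
    f ≫ AGF.conjBy g i = AGF.conjBy g (f ≫ i) := by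
  simp only [AGF.conjBy, MonObj.comp_mul, GrpObj.comp_inv, ← Category.assoc, toUnit_unique (f ≫ toUnit H) (toUnit X)]

theorem isMonHom_conjBy {G H : Over S} [GrpObj G] [GrpObj H] (g : 𝟙_ (Over S) ⟶ G) (a : H ⟶ G) [IsMonHom a] :
    IsMonHom (AGF.conjBy g a) where
  one_hom := by
    simp only [AGF.conjBy, MonObj.comp_mul, GrpObj.comp_inv, ← Category.assoc,
      toUnit_unique (η[H] ≫ toUnit H) (𝟙 _), Category.id_comp, IsMonHom.one_hom]
    have : (η[G] : 𝟙_ (Over S) ⟶ G) = 1 := by
      rw [Hom.one_def, toUnit_unique (toUnit (𝟙_ (Over S))) (𝟙 _), Category.id_comp]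
    rw [this]
    simp
  mul_hom := by
    have h1 : μ[H] ≫ a = (fst H H ≫ a) * (snd H H ≫ a) := by
      rw [← mul_comp', Hom.mul_def, lift_fst_snd, Category.id_comp]
    have h2 : (AGF.conjBy g a ⊗ₘ AGF.conjBy g a) ≫ μ[G] =
        (fst H H ≫ AGF.conjBy g a) * (snd H H ≫ AGF.conjBy g a) := by
      rw [Hom.mul_def, lift_fst_comp_snd_comp]
    rw [h2, comp_conjBy, comp_conjBy, comp_conjBy, h1]
    simp only [AGF.conjBy]
    group

theorem isMonHom_of_comp_mono {X M N : Over S} [GrpObj X] [GrpObj M] [GrpObj N] (f : X ⟶ M) (h : M ⟶ N)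
    [IsMonHom h] [Mono h] [IsMonHom (f ≫ h)] : IsMonHom f where
  one_hom := by rw [← cancel_mono h, Category.assoc, IsMonHom.one_hom, IsMonHom.one_hom]
  mul_hom := by
    rw [← cancel_mono h, Category.assoc, IsMonHom.mul_hom, Category.assoc, IsMonHom.mul_hom, tensorHom_comp_tensorHom_assoc]

theorem mono_map_of_closedImmersion {T : Scheme.{u}} (f : T ⟶ S) {X Y : Over S} (j : X ⟶ Y) (hj : IsClosedImmersion j.left) :
    Mono ((Over.pullback f).map j) := by
  haveI : Mono ((Over.forget S).map j) := (inferInstance : Mono j.left)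
  haveI : Mono j := (Over.forget S).mono_of_mono_map inferInstance
  haveI := (Over.mapPullbackAdj f).isRightAdjoint
  infer_instance

theorem mono_of_closedImmersion {X Y : Over S} (j : X ⟶ Y) (hj : IsClosedImmersion j.left) : Mono j := by
  haveI : Mono ((Over.forget S).map j) := (inferInstance : Mono j.left)
  exact (Over.forget S).mono_of_mono_map inferInstance

end General

section Affine

variable {k : Type u} [CommRing k] {m : ℕ}

theorem hom_to_base_ext {X : Over (Spec (CommRingCat.of k))} (a b : X ⟶ sp k k) : a = b := by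
  apply Over.OverMorphism.ext
  have ha := Over.w a
  have hb := Over.w b
  have h0 : (sp k k).hom = 𝟙 _ := by
    show Spec.map (CommRingCat.ofHom (algebraMap k k)) = _
    simp
    rfl
  rw [h0] at ha hb
  exact ((Category.comp_id a.left).symm.trans ha).trans ((Category.comp_id b.left).symm.trans hb).symm

/-- the unit object as `Spec k` -/
def unitTo (k : Type u) [CommRing k] : 𝟙_ (Over (Spec (CommRingCat.of k))) ⟶ sp k k :=
  Over.homMk (𝟙 _) (by
    show 𝟙 _ ≫ Spec.map (CommRingCat.ofHom (algebraMap k k)) = _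
    simp)

theorem toUnit_unitTo (A : Type u) [CommRing A] [Algebra k A] :
    toUnit (sp k A) ≫ unitTo k = pt (Algebra.ofId k A) := hom_to_base_ext _ _

theorem toUnit_eq_pt (A : Type u) [CommRing A] [Algebra k A] :
    toUnit (sp k A) = pt (Algebra.ofId k A) ≫ toUnit (sp k k) := toUnit_unique _ _

variable {G : Type} [CommGroup G] [Fintype G] [DecidableEq G]

theorem ofFam_eq_sum (P : G → Matrix (Fin m) (Fin m) k) :
    ofFam P = ∑ a, MonoidAlgebra.single a (1 : k) • (P a).map (algebraMap k (MonoidAlgebra k G)) := by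
  refine Eq.trans ?_ (map_ofFam P (AlgHom.id k (MonoidAlgebra k G)))
  ext i j : 2
  rfl

theorem const_mul_ofFam (C C' : Matrix (Fin m) (Fin m) k) (P : G → Matrix (Fin m) (Fin m) k) :
    C.map (algebraMap k (MonoidAlgebra k G)) * ofFam P * C'.map (algebraMap k (MonoidAlgebra k G)) =
      ofFam fun a => C * P a * C' := by
  rw [ofFam_eq_sum P, ofFam_eq_sum fun a => C * P a * C', Finset.mul_sum, Finset.sum_mul]
  simp only [Matrix.mul_smul, Matrix.smul_mul, Matrix.map_mul]

theorem map_ofFam_perm (P : G → Matrix (Fin m) (Fin m) k) (θ : MonoidAlgebra k G →ₐ[k] MonoidAlgebra k G)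
    (s : G ≃ G) (hs : ∀ a, θ (MonoidAlgebra.single a 1) = MonoidAlgebra.single (s a) 1) :
    (ofFam P).map θ = ofFam fun a => P (s.symm a) := by
  rw [map_ofFam, ofFam_eq_sum fun a => P (s.symm a), ← Equiv.sum_comp s (g := fun a => MonoidAlgebra.single a (1 : k) •
    (P (s.symm a)).map (algebraMap k (MonoidAlgebra k G)))]
  simp [hs]

theorem map_ofFam_incl {K : Type u} [CommRing K] [Algebra k K] (P : G → Matrix (Fin m) (Fin m) k) :
    (ofFam P).map (incl k K G) = ofFam (fun a => (P a).map (algebraMap k K)) := by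
  refine Matrix.ext fun i j => ?_
  simp only [Matrix.map_apply, ofFam, Matrix.of_apply, map_sum]
  refine Finset.sum_congr rfl fun a _ => ?_
  rw [show MonoidAlgebra.single a (P a i j) = (P a i j) • MonoidAlgebra.single a (1 : k) by simp, map_smul,
    incl_single, Algebra.algebraMap_eq_smul_one]
  simp

theorem ofFam_injective : Function.Injective (ofFam : (G → Matrix (Fin m) (Fin m) k) → _) := fun P Q h => by
  funext a
  rw [← wt_ofFam P a, h, wt_ofFam]

theorem mat_conjBy (g : 𝟙_ (Over (Spec (CommRingCat.of k))) ⟶ GLm k m)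
    (a : sp k (MonoidAlgebra k G) ⟶ GLm k m) {P : G → Matrix (Fin m) (Fin m) k} (ha : mat a = ofFam P) :
    mat (AGF.conjBy g a) = ofFam fun b => mat (toUnit (sp k k) ≫ g) * P b * mat (toUnit (sp k k) ≫ g)⁻¹ := by
  rw [AGF.conjBy, mat_mul, mat_mul, toUnit_eq_pt, Category.assoc, ← GrpObj.comp_inv, mat_comp, mat_comp, ha]
  exact const_mul_ofFam _ _ P

variable {K : Type u} [CommRing K] [Algebra k K]

theorem matK_conjBy (g : 𝟙_ (Over (Spec (CommRingCat.of K))) ⟶ Red.bc (str k K) (GLm k m))
    (a : sp K (MonoidAlgebra K G) ⟶ Red.bc (str k K) (GLm k m)) {P : G → Matrix (Fin m) (Fin m) K}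
    (ha : matK a = ofFam P) :
    matK (AGF.conjBy g a) = ofFam fun b => matK (toUnit (sp K K) ≫ g) * P b * matK (toUnit (sp K K) ≫ g)⁻¹ := by
  rw [AGF.conjBy, matK_mul, matK_mul, toUnit_eq_pt, Category.assoc, ← GrpObj.comp_inv, matK_comp, matK_comp, ha]
  exact const_mul_ofFam _ _ P

end Affine

section Endo

variable {k : Type u} [CommRing k] {G : Type} [CommGroup G]

theorem exists_ptAlg_of_isMonHom (a : sp k (MonoidAlgebra k G) ⟶ sp k (MonoidAlgebra k G)) [IsMonHom a] :
    ∃ θ : MonoidAlgebra k G →ₐ[k] MonoidAlgebra k G, pt θ = a ∧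
      (∀ (C : Type u) [CommRing C] [Algebra k C] (x y : MonoidAlgebra k G →ₐ[k] C),
        (conv x y).comp θ = conv (x.comp θ) (y.comp θ)) ∧
      (Bialgebra.counitAlgHom k (MonoidAlgebra k G)).comp θ = Bialgebra.counitAlgHom k (MonoidAlgebra k G) := by
  obtain ⟨θ, rfl⟩ := pt_surjective a
  refine ⟨θ, rfl, fun C _ _ x y => pt_injective ?_, pt_injective ?_⟩
  · rw [pt_comp, pt_conv, mul_comp', ← pt_comp, ← pt_comp, ← pt_conv]
  · rw [pt_comp, pt_counit_eq_one, one_comp']

theorem exists_perm {F : Type u} [Field F] [Fintype G] [DecidableEq G]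
    (a : sp F (MonoidAlgebra F G) ⟶ sp F (MonoidAlgebra F G)) [IsMonHom a] [IsIso a] :
    ∃ (θ : MonoidAlgebra F G →ₐ[F] MonoidAlgebra F G) (s : G ≃* G), pt θ = a ∧
      ∀ b, θ (MonoidAlgebra.single b 1) = MonoidAlgebra.single (s b) 1 := by
  obtain ⟨θ, hθ, hc, hε⟩ := exists_ptAlg_of_isMonHom a
  obtain ⟨s, hs⟩ := exists_endo θ hc hε
  obtain ⟨θ', hθ'⟩ := pt_surjective (inv a)
  have hli : θ'.comp θ = AlgHom.id F _ := pt_injective (by rw [pt_comp, hθ', hθ, IsIso.inv_hom_id, pt_id])
  have inj : Function.Injective s := fun b c h => by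
    have h' : θ (MonoidAlgebra.single b 1) = θ (MonoidAlgebra.single c 1) := by rw [hs, hs, h]
    have h'' := congrArg θ' h'
    rw [← AlgHom.comp_apply, ← AlgHom.comp_apply, hli] at h''
    exact MonoidAlgebra.single_left_injective (one_ne_zero : (1 : F) ≠ 0) h''
  have hmul : ∀ b c, s (b * c) = s b * s c := fun b c => by
    have h : MonoidAlgebra.single (s (b * c)) (1 : F) = MonoidAlgebra.single (s b * s c) 1 := by
      rw [← hs, ← _root_.mul_one (1 : F), ← MonoidAlgebra.single_mul_single, map_mul, hs, hs,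
        MonoidAlgebra.single_mul_single]
    exact MonoidAlgebra.single_left_injective (one_ne_zero : (1 : F) ≠ 0) h
  exact ⟨θ, MulEquiv.mk' (Equiv.ofBijective s (Finite.injective_iff_bijective.mp inj)) hmul, hθ, hs⟩

/-- the automorphism of `D(G)` given by an automorphism of `G` -/
def permIso (k : Type u) [CommRing k] (s : G ≃* G) : sp k (MonoidAlgebra k G) ≅ sp k (MonoidAlgebra k G) where
  hom := pt (MonoidAlgebra.mapDomainAlgHom k k s.toMonoidHom)
  inv := pt (MonoidAlgebra.mapDomainAlgHom k k s.symm.toMonoidHom)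
  hom_inv_id := by
    rw [← pt_comp, ← pt_id]
    congr 1
    ext a
    simp
  inv_hom_id := by
    rw [← pt_comp, ← pt_id]
    congr 1
    ext a
    simp

instance isMonHom_permIso (s : G ≃* G) : IsMonHom (permIso k s).hom := by
  refine isMonHom_of_points _ fun C _ _ x y => ?_
  obtain ⟨φ, rfl⟩ := pt_surjective x
  obtain ⟨ψ, rfl⟩ := pt_surjective y
  simp only [permIso]
  rw [← pt_conv, ← pt_comp, ← pt_comp, ← pt_comp, ← pt_conv]
  congr 1
  ext a
  simp

end Endo

end Groth.Agent.DiagGrp
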