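import Groth.Agent.DiagGrp.Basic
import Groth.Prelude.Def_GLin4
import Mathlib.LinearAlgebra.Matrix.Basis
import Mathlib.LinearAlgebra.StdBasis
import Mathlib.LinearAlgebra.Matrix.Rank
import Mathlib.Data.Matrix.PEquiv

/-!
Homomorphisms from diagonalisable groups to `GL_m` as matrices over group algebras, and their weight idempotents.
-/

universe u

open CategoryTheory MonoidalCategory CartesianMonoidalCategory MonObj GrpObj AlgebraicGeometry
open scoped TensorProduct

noncomputable section

namespace Groth.Agent.DiagGrp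

open CoactBr

section Points

variable {k : Type u} [CommRing k] {m : ℕ} {B C : Type u} [CommRing B] [Algebra k B] [CommRing C] [Algebra k C]

/-- the group scheme `GL_m` -/
abbrev GLm (k : Type u) [CommRing k] (m : ℕ) : Over (Spec (CommRingCat.of k)) := sp k (CoordGrp.GLn m k)

/-- the algebra map of a point -/
def algOf (x : sp k B ⟶ GLm k m) : CoordGrp.GLn m k →ₐ[k] B := (pt_surjective x).choose

theorem pt_algOf (x : sp k B ⟶ GLm k m) : pt (algOf x) = x := (pt_surjective x).choose_spec

theorem algOf_pt (φ : CoordGrp.GLn m k →ₐ[k] B) : algOf (pt φ) = φ := pt_injective (pt_algOf _)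

/-- the matrix of a point -/
def mat (x : sp k B ⟶ GLm k m) : Matrix (Fin m) (Fin m) B := Matrix.of fun i j => algOf x (CoordGrp.GLn.X i j)

theorem mat_pt (φ : CoordGrp.GLn m k →ₐ[k] B) (i j : Fin m) : mat (pt φ) i j = φ (CoordGrp.GLn.X i j) := by
  simp [mat, algOf_pt]

theorem mat_mul (x y : sp k B ⟶ GLm k m) : mat (x * y) = mat x * mat y := by
  ext i j
  conv_lhs => rw [← pt_algOf x, ← pt_algOf y, pt_mul_pt]
  rw [mat_pt, AlgHom.comp_apply, Bialgebra.comulAlgHom_apply, CoordGrp.GLn.comul_X, map_sum, Matrix.mul_apply]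
  simp [mat]

theorem mat_one : mat (1 : sp k B ⟶ GLm k m) = 1 := by
  ext i j
  rw [one_eq_pt, mat_pt, AlgHom.comp_apply, Bialgebra.counitAlgHom_apply, CoordGrp.GLn.counit_X, Matrix.one_apply]
  split_ifs <;> simp

theorem isUnit_det_mat (x : sp k B ⟶ GLm k m) : IsUnit (mat x).det := by
  refine IsUnit.of_mul_eq_one (algOf x CoordGrp.GLn.Dinv) ?_
  have : (mat x).det = algOf x CoordGrp.GLn.det := by
    rw [CoordGrp.GLn.det_eq, AlgHom.map_det]; rfl
  rw [this, ← map_mul, CoordGrp.GLn.det_mul_Dinv, map_one]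

theorem mat_injective : Function.Injective (mat : (sp k B ⟶ GLm k m) → Matrix (Fin m) (Fin m) B) := by
  intro x y h
  rw [← pt_algOf x, ← pt_algOf y]
  refine congrArg _ ?_
  have hX : ∀ i j, algOf x (CoordGrp.GLn.X i j) = algOf y (CoordGrp.GLn.X i j) := fun i j =>
    congrFun (congrFun h i) j
  refine CoordGrp.GLn.algHom_ext hX ?_
  have hd : algOf x CoordGrp.GLn.det = algOf y CoordGrp.GLn.det := by
    rw [CoordGrp.GLn.det_eq, AlgHom.map_det, AlgHom.map_det]
    congr 1
  calc algOf x CoordGrp.GLn.Dinv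
      = algOf x CoordGrp.GLn.Dinv * (algOf y CoordGrp.GLn.det * algOf y CoordGrp.GLn.Dinv) := by
        rw [← map_mul (algOf y), CoordGrp.GLn.det_mul_Dinv, map_one, _root_.mul_one]
    _ = algOf y CoordGrp.GLn.Dinv := by
        rw [← hd, ← _root_.mul_assoc, ← map_mul, mul_comm CoordGrp.GLn.Dinv, CoordGrp.GLn.det_mul_Dinv, map_one,
          _root_.one_mul]

theorem mat_surjective (M : Matrix (Fin m) (Fin m) B) (h : IsUnit M.det) : ∃ x : sp k B ⟶ GLm k m, mat x = M := by
  refine ⟨pt (CoordGrp.GLn.pt m k M ↑(h.unit⁻¹) h.mul_val_inv), ?_⟩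
  ext i j
  rw [mat_pt]
  simp

theorem mat_comp (g : B →ₐ[k] C) (x : sp k B ⟶ GLm k m) : mat (pt g ≫ x) = (mat x).map g := by
  ext i j
  conv_lhs => rw [← pt_algOf x, ← pt_comp]
  rw [mat_pt]
  rfl

theorem mat_mul_inv (x : sp k B ⟶ GLm k m) : mat x * mat x⁻¹ = 1 := by
  rw [← mat_mul, mul_inv_cancel, mat_one]

theorem mat_inv_mul (x : sp k B ⟶ GLm k m) : mat x⁻¹ * mat x = 1 := by
  rw [← mat_mul, inv_mul_cancel, mat_one]

end Points

/-! ### idempotent families -/

/-- a complete family of orthogonal idempotent matrices indexed by `G` -/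
structure IsIdemFamily {R : Type u} [CommRing R] {m : ℕ} {G : Type} [DecidableEq G] [Fintype G]
    (P : G → Matrix (Fin m) (Fin m) R) : Prop where
  mul : ∀ a b, P a * P b = if a = b then P a else 0
  sum : ∑ a, P a = 1

/-- the diagonal family with weights `c` -/
def diagFam (R : Type u) [CommRing R] {m : ℕ} {G : Type} [DecidableEq G] (c : Fin m → G) (a : G) :
    Matrix (Fin m) (Fin m) R :=
  Matrix.diagonal fun i => if c i = a then 1 else 0

theorem diagFam_map {R S : Type u} [CommRing R] [CommRing S] (f : R →+* S) {m : ℕ} {G : Type} [DecidableEq G]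
    (c : Fin m → G) (a : G) : (diagFam R c a).map f = diagFam S c a := by
  rw [diagFam, Matrix.diagonal_map (map_zero f)]
  congr 1
  ext i
  split_ifs <;> simp

theorem isIdemFamily_diagFam {R : Type u} [CommRing R] {m : ℕ} {G : Type} [DecidableEq G] [Fintype G]
    (c : Fin m → G) : IsIdemFamily (diagFam R c) := by
  refine ⟨fun a b => ?_, ?_⟩
  · rw [diagFam, diagFam, Matrix.diagonal_mul_diagonal]
    split_ifs with h
    · subst h; congr 1; ext i; split_ifs <;> simp
    · rw [← Matrix.diagonal_zero]; congr 1; ext i; split_ifs with h1 h2 <;> simp_all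
  · ext i j
    rw [Matrix.sum_apply]
    by_cases h : i = j
    · subst h; simp [diagFam]
    · simp [diagFam, Matrix.diagonal_apply_ne _ h, Matrix.one_apply_ne h]

theorem exists_conj_diagFam {F : Type u} [Field F] {m : ℕ} {G : Type} [DecidableEq G] [Fintype G]
    {P : G → Matrix (Fin m) (Fin m) F} (hP : IsIdemFamily P) :
    ∃ (g : (Matrix (Fin m) (Fin m) F)ˣ) (c : Fin m → G), ∀ a,
      (g : Matrix (Fin m) (Fin m) F) * P a = diagFam F c a * g := by
  classical
  let f : G → Module.End F (Fin m → F) := fun a => Matrix.toLin' (P a)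
  have hff : ∀ a b v, f a (f b v) = if a = b then f a v else 0 := by
    intro a b v
    show Matrix.toLin' (P a) (Matrix.toLin' (P b) v) = _
    rw [← LinearMap.comp_apply, ← Matrix.toLin'_mul, hP.mul]
    split_ifs with h
    · rfl
    · simp
  have hsum : ∀ v, ∑ a, f a v = v := by
    intro v
    show ∑ a, Matrix.toLin' (P a) v = v
    rw [← LinearMap.sum_apply, ← map_sum, hP.sum, Matrix.toLin'_one, LinearMap.id_apply]
  let e : (Fin m → F) ≃ₗ[F] Π a, LinearMap.range (f a) :=
    { toFun := fun v a => ⟨f a v, LinearMap.mem_range_self _ _⟩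
      map_add' := fun v w => by ext a; simp
      map_smul' := fun r v => by ext a; simp
      invFun := fun w => ∑ a, (w a : Fin m → F)
      left_inv := fun v => hsum v
      right_inv := fun w => by
        ext a : 2
        simp only [map_sum]
        rw [Finset.sum_eq_single a]
        · obtain ⟨v, hv⟩ := (w a).2
          rw [← hv, hff, if_pos rfl]
        · intro b _ hb
          obtain ⟨v, hv⟩ := (w b).2
          rw [← hv, hff, if_neg (Ne.symm hb)]
        · simp }
  let bs := fun a => Module.finBasis F (LinearMap.range (f a))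
  let b₀ := (Pi.basis bs).map e.symm
  have hcard : Fintype.card (Σ a, Fin (Module.finrank F (LinearMap.range (f a)))) = m := by
    rw [← Module.finrank_eq_card_basis b₀, Module.finrank_fin_fun]
  let σ := Fintype.equivFinOfCardEq hcard
  let b := b₀.reindex σ
  let c : Fin m → G := fun i => (σ.symm i).1
  have hb : ∀ a i, f a (b i) = if c i = a then b i else 0 := by
    intro a i
    obtain ⟨j, rfl⟩ := σ.surjective i
    obtain ⟨a', j⟩ := j
    have hbi : b (σ ⟨a', j⟩) = (bs a' j : Fin m → F) := by
      simp only [b, b₀, Module.Basis.reindex_apply, Equiv.symm_apply_apply, Module.Basis.map_apply, Pi.basis_apply]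
      show ∑ x, ((Pi.single a' (bs a' j) : Π a, LinearMap.range (f a)) x : Fin m → F) = _
      rw [Finset.sum_eq_single a']
      · simp
      · intro x _ hx; simp [Pi.single_eq_of_ne hx]
      · simp
    obtain ⟨v, hv⟩ := (bs a' j).2
    simp only [c, Equiv.symm_apply_apply, hbi, ← hv, hff]
    by_cases h : a = a'
    · subst h; simp
    · simp [h, Ne.symm h]
  let std := Pi.basisFun F (Fin m)
  refine ⟨⟨b.toMatrix std, std.toMatrix b, b.toMatrix_mul_toMatrix_flip std, std.toMatrix_mul_toMatrix_flip b⟩, c, fun a => ?_⟩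
  show b.toMatrix std * P a = diagFam F c a * b.toMatrix std
  have hP' : LinearMap.toMatrix std std (f a) = P a := by
    rw [show std = Pi.basisFun F (Fin m) from rfl, LinearMap.toMatrix_eq_toMatrix']
    exact LinearMap.toMatrix'_toLin' _
  have hD : LinearMap.toMatrix b b (f a) = diagFam F c a := by
    ext i j
    rw [LinearMap.toMatrix_apply, hb, diagFam, Matrix.diagonal_apply]
    split_ifs with h1 h2 h3 <;> simp_all
  rw [← hD, ← hP', linearMap_toMatrix_mul_basis_toMatrix, basis_toMatrix_mul_linearMap_toMatrix]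

theorem card_eq_of_conj {F : Type u} [Field F] {m : ℕ} {G : Type} [DecidableEq G]
    {c d : Fin m → G} {a b : G} (g : (Matrix (Fin m) (Fin m) F)ˣ)
    (h : (g : Matrix (Fin m) (Fin m) F) * diagFam F c a = diagFam F d b * g) :
    Fintype.card {i // c i = a} = Fintype.card {i // d i = b} := by
  classical
  have h' := congrArg Matrix.rank h
  rw [Matrix.rank_mul_eq_right_of_isUnit_det _ _ ((Matrix.isUnit_iff_isUnit_det _).mp g.isUnit),
    Matrix.rank_mul_eq_left_of_isUnit_det _ _ ((Matrix.isUnit_iff_isUnit_det _).mp g.isUnit),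
    diagFam, diagFam, Matrix.rank_diagonal, Matrix.rank_diagonal] at h'
  simpa using h'

theorem exists_conj_of_card_eq (R : Type u) [CommRing R] {m : ℕ} {G : Type} [DecidableEq G]
    {c d : Fin m → G} (e : G ≃ G) (h : ∀ a, Fintype.card {i // c i = a} = Fintype.card {i // d i = e a}) :
    ∃ g : (Matrix (Fin m) (Fin m) R)ˣ, ∀ a,
      (g : Matrix (Fin m) (Fin m) R) * diagFam R c a = diagFam R d (e a) * g := by
  classical
  let s : Fin m ≃ Fin m := Equiv.ofFiberEquiv (f := fun i => e (c i)) (g := d) fun a =>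
    ((Equiv.subtypeEquivRight fun i => by simp [Equiv.eq_symm_apply]).trans
      (Fintype.equivOfCardEq ((h (e.symm a)).trans (by simp))))
  have hs : ∀ i, d (s i) = e (c i) := fun i => Equiv.ofFiberEquiv_map _ i
  let M : Matrix (Fin m) (Fin m) R := s.symm.toPEquiv.toMatrix
  let N : Matrix (Fin m) (Fin m) R := s.toPEquiv.toMatrix
  have hMN : M * N = 1 := by
    rw [← PEquiv.toMatrix_trans, ← Equiv.toPEquiv_trans]; simp
  have hNM : N * M = 1 := by
    rw [← PEquiv.toMatrix_trans, ← Equiv.toPEquiv_trans]; simp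
  refine ⟨⟨M, N, hMN, hNM⟩, fun a => ?_⟩
  ext i j
  simp only [M, diagFam, Matrix.mul_diagonal, Matrix.diagonal_mul, PEquiv.toMatrix_apply,
    Equiv.toPEquiv_apply, Option.mem_some_iff]
  by_cases hij : s.symm i = j
  · subst hij
    have := hs (s.symm i)
    simp only [Equiv.apply_symm_apply] at this
    simp [this]
  · simp [hij]

end Groth.Agent.DiagGrp
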